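import Groth.Agent.AdjFormLib.PnTop
import Groth.Agent.S15539
import Groth.Agent.ExtPowLib.Sheaf
import Groth.Agent.EtaEtLib.Fibres
import Groth.Agent.ExtTopLib.Top
import Groth.Agent.StratLib.Light

/-! The canonical sheaf of projective space over any base. -/

set_option autoImplicit false
set_option linter.style.haveILetI false
set_option linter.unusedSectionVars false
set_option maxHeartbeats 1000000
universe u

open CategoryTheory CategoryTheory.Limits AlgebraicGeometry TopologicalSpace Opposite

noncomputable section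

namespace OmegaPnLib

variable (k : Type u) [CommRing k] [Nontrivial k] (n : ℕ)

theorem smoothRel_projSpace : SmoothOfRelativeDimension n (CohB1.ProjSpace.toSpec n k) := by
  haveI hR : HasRingHomProperty (@SmoothOfRelativeDimension n)
    (RingHom.Locally (RingHom.IsStandardSmoothOfRelativeDimension n)) := inferInstance
  haveI : IsZariskiLocalAtSource (@SmoothOfRelativeDimension n) :=
    HasRingHomProperty.instIsZariskiLocalAtSource (P := @SmoothOfRelativeDimension n)
      (Q := RingHom.Locally (RingHom.IsStandardSmoothOfRelativeDimension n))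
  refine IsZariskiLocalAtSource.of_iSup_eq_top (P := @SmoothOfRelativeDimension n) (QCohLib.stdOpen n k)
    (QCohLib.iSup_stdOpen n k) fun i => ?_
  let X₀ : MvPolynomial (Fin (n + 1)) k := MvPolynomial.X i
  have hX : X₀ ∈ CohB1.polyGrading n k 1 := GradedCechLib.X_mem n k i
  change SmoothOfRelativeDimension n ((Proj.basicOpen (CohB1.polyGrading n k) X₀).ι ≫
    Proj.toSpecZero (CohB1.polyGrading n k) ≫ Spec.map (CommRingCat.ofHom (algebraMap k (CohB1.polyGrading n k 0))))
  have e : (Proj.basicOpen (CohB1.polyGrading n k) X₀).ι =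
      (Proj.basicOpenIsoSpec (CohB1.polyGrading n k) X₀ hX one_pos).hom ≫
        Proj.awayι (CohB1.polyGrading n k) X₀ hX one_pos := by
    rw [← Proj.basicOpenIsoSpec_inv_ι, Iso.hom_inv_id_assoc]
  rw [e, Category.assoc, Proj.awayι_toSpecZero_assoc, ← Spec.map_comp]
  suffices SmoothOfRelativeDimension n (Spec.map (CommRingCat.ofHom (algebraMap k (CohB1.polyGrading n k 0)) ≫
      CommRingCat.ofHom (HomogeneousLocalization.fromZeroRingHom (CohB1.polyGrading n k) (Submonoid.powers X₀)))) by
    have := IsZariskiLocalAtSource.comp (P := @SmoothOfRelativeDimension n) this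
      (Proj.basicOpenIsoSpec (CohB1.polyGrading n k) X₀ hX one_pos).hom
    exact this
  rw [HasRingHomProperty.Spec_iff (P := @SmoothOfRelativeDimension n)]
  refine RingHom.locally_of RingHom.isStandardSmoothOfRelativeDimension_respectsIso _ ?_
  have h : (CommRingCat.ofHom (algebraMap k (CohB1.polyGrading n k 0)) ≫
      CommRingCat.ofHom (HomogeneousLocalization.fromZeroRingHom (CohB1.polyGrading n k) (Submonoid.powers X₀))).hom =
      (GenusZeroLib.chartPoly n k i).comp (algebraMap k (MvPolynomial (Fin n) k)) :=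
    RingHom.ext fun r => by simp [GenusZeroLib.chartPoly]; rfl
  rw [h]
  haveI := EtaEtLib.isStandardSmooth_mvPolynomial k n
  have h2 := RingHom.IsStandardSmoothOfRelativeDimension.comp
    (RingHom.IsStandardSmoothOfRelativeDimension.equiv
      (RingEquiv.ofBijective _ (GenusZeroLib.chartPoly_bijective n k i)))
    ((RingHom.isStandardSmoothOfRelativeDimension_algebraMap (R := k) (S := MvPolynomial (Fin n) k) n).mpr inferInstance)
  rwa [Nat.zero_add] at h2

omit [Nontrivial k] in
theorem quasiSeparated_toSpec : QuasiSeparated (CohB1.ProjSpace.toSpec n k) := by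
  haveI := StratLib.isProper_toSpec n k
  infer_instance

/-- The top differential forms of `P^n_Y`. -/
theorem nonempty_top_iso_twistOver (Y : Scheme.{u}) [QuasiSeparated (CohB1.ProjSpaceOver.toBase n Y)]
    (L : (CohB1.ProjSpaceOver n Y).Modules)
    (hL : ExtPow.IsExtPow n (Omega.sheaf (CohB1.ProjSpaceOver.toBase n Y)) L) :
    Nonempty (L ≅ Twist.twistOver n Y (-(n : ℤ) - 1)) := by
  let g := CohB1.ProjSpace.toSpec n (ULift.{u} ℤ)
  haveI := smoothRel_projSpace (ULift.{u} ℤ) n
  haveI := quasiSeparated_toSpec (ULift.{u} ℤ) n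
  haveI : IsNoetherianRing (ULift.{u} ℤ) := isNoetherianRing_of_ringEquiv ℤ ULift.ringEquiv.symm
  haveI := StratLib.isProper_toSpec n (ULift.{u} ℤ)
  haveI : IsLocallyNoetherian (CohB1.ProjSpace n (ULift.{u} ℤ)) := LocallyOfFiniteType.isLocallyNoetherian g
  obtain ⟨L₀, hL₀⟩ := ExtTopLib.exists_isExtPow (CohCmpLib.rank_omega g n)
  obtain ⟨e₀⟩ := AdjFormLib.nonempty_top_iso_twist n (ULift.{u} ℤ) L₀ hL₀
  have h := Groth.Agent.S15539.result (CohB1.ProjSpace n (ULift.{u} ℤ)) _ (CohB1.ProjSpaceOver n Y) Y g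
    (CohB1.ProjSpaceOver.toBase n Y)
    (pullback.fst (CohB1.ProjSpace.toSpec n (ULift.{u} ℤ)) (specULiftZIsTerminal.from Y))
    (specULiftZIsTerminal.from Y) (IsPullback.of_hasPullback _ _) n L₀ hL₀
  obtain ⟨e⟩ := ExtPowLib.nonempty_iso hL h
  exact ⟨e ≪≫ (Scheme.Modules.pullback _).mapIso (e₀ ≪≫ eqToIso (by rw [neg_add, sub_eq_add_neg]))⟩

end OmegaPnLib
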